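import Cfsg.Agent.Lib.Helper5.F11.H29.FrCDickson
import Cfsg.Agent.Lib.Helper12.DkPFinal

/-!
# CORE13 (S5679 + S5696), leaf D1 `dickson_bridge` (helper29), EXACT signature: `dickson_bridge_of_tri` + helper12's
`pgl2_prime_trichotomy`.
-/

set_option autoImplicit false
set_option linter.unusedSectionVars false
set_option linter.unusedVariables false

namespace Cfsg.Agent.Lib.Helper5.F11.H29.FrCLeaf

open Module QuadraticMap Matrix Cfsg.Agent.Lib.Helper25.CD Cfsg.Agent.Lib.Helper25.Spin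
  Cfsg.Agent.Lib.Helper5.NSMax Cfsg.Agent.Lib.Helper5.PairMax Cfsg.Agent.Lib.Helper17.OC2
  Cfsg.Agent.Lib.Helper29.FrStd Cfsg.Agent.Lib.Helper11.Mono Cfsg.Agent.Lib.Helper5.F11.H17.FrC

variable {κ : Type} [Fintype κ] [DecidableEq κ] {F : Type*} [Field F] [Fintype F]
  {c : F} {M : Subgroup ↥(Cfsg.isometryGroup F ⇑(stdQ κ F c))}

/-- D1 -/
theorem dickson_bridge (h : Ctx c M) (h5 : 5 ≤ Fintype.card F) (R : Set (κ → F))
    (hR : ∀ x ∈ R, Rt c M x) (U : Submodule F (κ → F)) (hU : U = Submodule.span F R)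
    (h3 : finrank F U = 3) (hnd : ∀ u ∈ U, (∀ v ∈ U, u ⬝ᵥ v = 0) → u = 0)
    (hirr : ∀ w ∈ U, w ≠ 0 → ∃ x ∈ R, x ⬝ᵥ w ≠ 0 ∧ w ∉ Submodule.span F {x}) :
    TransU c M U ∨ Small c R U := by
  have hpF : Fact (Fintype.card F).Prime := ⟨h.prime⟩
  have hch : CharP F (Fintype.card F) := charP_of_card_prime' h.prime
  exact dickson_bridge_of_tri h h5
    (fun X => Cfsg.Agent.Lib.Helper12.DkP.pgl2_prime_trichotomy rfl h5 X) R hR U hU h3 hnd hirr

end Cfsg.Agent.Lib.Helper5.F11.H29.FrCLeaf
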