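import Cfsg.Agent.Lib.Helper5.F11.H17.FrCDefs
import Cfsg.Agent.Lib.Helper5.F11.H15.FrCS

/-!
# CORE13 (S5679 + S5696), block P3 (`p = 3`): leaves `p3_all`, `p3_weight_four` (helper29)
Over `F_3` a unit vector has all coordinates in `{0, ±1}` and weight `≡ 1 (mod 3)`.
-/

set_option autoImplicit false
set_option linter.unusedSectionVars false
set_option linter.unusedVariables false
set_option linter.unusedSimpArgs false

namespace Cfsg.Agent.Lib.Helper5.F11.H29.FrCLeaf

open Module QuadraticMap Matrix Cfsg.Agent.Lib.Helper25.CD Cfsg.Agent.Lib.Helper25.Spin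
  Cfsg.Agent.Lib.Helper5.NSMax Cfsg.Agent.Lib.Helper5.PairMax Cfsg.Agent.Lib.Helper17.OC2
  Cfsg.Agent.Lib.Helper29.FrStd Cfsg.Agent.Lib.Helper11.Mono Cfsg.Agent.Lib.Helper5.F11.H17.FrC

variable {κ : Type} [Fintype κ] [DecidableEq κ] {F : Type*} [Field F] [Fintype F]
  {c : F} {M : Subgroup ↥(Cfsg.isometryGroup F ⇑(stdQ κ F c))}

/-! ## the field with three elements -/

lemma f3_three (h3 : Fintype.card F = 3) : (3 : F) = 0 := by
  have := Nat.cast_card_eq_zero F
  rw [h3] at this
  exact_mod_cast this

lemma f3_two_ne (h3 : Fintype.card F = 3) : (2 : F) ≠ 0 := by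
  intro h
  have h3' := f3_three h3
  have : (1 : F) = 0 := by linear_combination h3' - h
  exact one_ne_zero this

lemma f3_cases (h3 : Fintype.card F = 3) (y : F) : y = 0 ∨ y = 1 ∨ y = -1 := by
  classical
  have h2 := f3_two_ne h3
  have h01 : (0 : F) ≠ 1 := zero_ne_one
  have h0m : (0 : F) ≠ -1 := by
    intro h
    have : (1 : F) = 0 := by linear_combination h
    exact one_ne_zero this
  have h1m : (1 : F) ≠ -1 := by
    intro h
    apply h2
    linear_combination h
  have hcard : ({0, 1, -1} : Finset F).card = 3 := by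
    rw [Finset.card_insert_of_notMem, Finset.card_insert_of_notMem, Finset.card_singleton]
    · simpa using h1m
    · simp only [Finset.mem_insert, Finset.mem_singleton, not_or]
      exact ⟨h01, h0m⟩
  have huniv : ({0, 1, -1} : Finset F) = Finset.univ := by
    apply Finset.eq_univ_of_card
    rw [hcard, h3]
  have := Finset.mem_univ y
  rw [← huniv] at this
  simpa using this

lemma f3_sq (h3 : Fintype.card F = 3) {y : F} (hy : y ≠ 0) : y ^ 2 = 1 := by
  rcases f3_cases h3 y with h | h | h
  · exact absurd h hy
  · rw [h]; ring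
  · rw [h]; ring

lemma f3_mul_self (h3 : Fintype.card F = 3) {y : F} (hy : y ≠ 0) : y * y = 1 := by
  rw [← pow_two]
  exact f3_sq h3 hy

/-- two non-zero elements of `F_3` are equal or opposite -/
lemma f3_eq_or_neg (h3 : Fintype.card F = 3) {y z : F} (hy : y ≠ 0) (hz : z ≠ 0) : y = z ∨ y = -z := by
  rcases f3_cases h3 y with h | h | h
  · exact absurd h hy
  · rcases f3_cases h3 z with h' | h' | h'
    · exact absurd h' hz
    · left; rw [h, h']
    · right; rw [h, h']; ring
  · rcases f3_cases h3 z with h' | h' | h'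
    · exact absurd h' hz
    · right; rw [h, h']
    · left; rw [h, h']

/-- `x ⬝ᵥ x` is the weight of `x` -/
lemma f3_dot_self (h3 : Fintype.card F = 3) (x : κ → F) : x ⬝ᵥ x = ((supp x).card : F) := by
  classical
  unfold supp dotProduct
  rw [Finset.card_filter, Nat.cast_sum]
  apply Finset.sum_congr rfl
  intro l _
  by_cases hl : x l = 0
  · rw [hl, mul_zero, if_neg (by simp)]
    simp
  · rw [f3_mul_self h3 hl, if_pos hl]
    simp

lemma f3_cast_eq_one (h3 : Fintype.card F = 3) (n : ℕ) : ((n : F) = 1) ↔ n % 3 = 1 := by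
  have h30 := f3_three h3
  have h2 := f3_two_ne h3
  have key : (n : F) = ((n % 3 : ℕ) : F) := by
    conv_lhs => rw [← Nat.div_add_mod n 3]
    push_cast
    rw [h30, zero_mul, zero_add]
  rw [key]
  have hlt : n % 3 < 3 := Nat.mod_lt _ (by norm_num)
  interval_cases (n % 3)
  · simp
  · simp
  · simp only [Nat.cast_ofNat, OfNat.ofNat_ne_one, iff_false]
    intro h
    have h'' : (1 : F) = 0 := by linear_combination h
    exact one_ne_zero h''

/-! ## generalities on `Sys` -/

/-- flipping the signs on a finite set of coordinates -/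
lemma sys_flipT {R : (κ → F) → Prop} (hS : Sys R) (T : Finset κ) {a : κ → F} (ha : R a) :
    R (fun l => if l ∈ T then - a l else a l) := by
  induction T using Finset.induction_on with
  | empty => simpa using ha
  | insert i T hi ih =>
    have h1 := hS.flip _ i ih
    have e : Cfsg.Agent.Lib.Helper5.F11.H17.FrC.flip i (fun l => if l ∈ T then - a l else a l) =
        fun l => if l ∈ insert i T then - a l else a l := by
      funext l
      unfold Cfsg.Agent.Lib.Helper5.F11.H17.FrC.flip
      by_cases hl : l = i
      · subst hl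
        rw [Function.update_self]
        simp only [if_neg hi, if_pos (Finset.mem_insert_self _ _)]
      · rw [Function.update_of_ne hl]
        by_cases hlT : l ∈ T
        · rw [if_pos hlT, if_pos (Finset.mem_insert_of_mem hlT)]
        · rw [if_neg hlT, if_neg (by simp [hl, hlT])]
    rw [e] at h1
    exact h1

/-- an even permutation carrying the set `B` onto the set `A` -/
lemma exists_even_perm (A B : Finset κ) (hAB : A.card = B.card) (hA : 2 ≤ A.card) :
    ∃ σ : Equiv.Perm κ, Equiv.Perm.sign σ = 1 ∧ ∀ l, σ l ∈ A ↔ l ∈ B := by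
  classical
  have e : {x // x ∈ B} ≃ {x // x ∈ A} := Fintype.equivOfCardEq (by simp [hAB])
  obtain ⟨τ, hτ⟩ : ∃ τ : Equiv.Perm κ, ∀ l, τ l ∈ A ↔ l ∈ B := by
    refine ⟨e.extendSubtype, fun l => ?_⟩
    constructor
    · intro h
      by_contra hl
      exact Equiv.extendSubtype_not_mem e l hl h
    · intro h
      exact Equiv.extendSubtype_mem e l h
  rcases Int.units_eq_one_or (Equiv.Perm.sign τ) with h1 | h1
  · exact ⟨τ, h1, hτ⟩
  · obtain ⟨x, hx, y, hy, hxy⟩ := Finset.one_lt_card.mp (by omega : 1 < A.card)
    refine ⟨Equiv.swap x y * τ, ?_, fun l => ?_⟩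
    · rw [Equiv.Perm.sign_mul, Equiv.Perm.sign_swap hxy, h1]
      rfl
    · rw [Equiv.Perm.mul_apply, ← hτ l]
      by_cases h1 : τ l = x
      · rw [h1, Equiv.swap_apply_left]
        exact ⟨fun _ => hx, fun _ => hy⟩
      · by_cases h2 : τ l = y
        · rw [h2, Equiv.swap_apply_right]
          exact ⟨fun _ => hy, fun _ => hx⟩
        · rw [Equiv.swap_apply_of_ne_of_ne h1 h2]

/-! ## weight one and weight four -/

/-- a vector of weight one over `F_3` is `± e_i` -/
lemma eq_pm_e_of_card_one (h3 : Fintype.card F = 3) {x : κ → F} (h1 : (supp x).card = 1) :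
    ∃ i, x = e i ∨ x = -e i := by
  obtain ⟨i, hi⟩ := Finset.card_eq_one.mp h1
  have hxi : x i ≠ 0 := by
    rw [← mem_supp, hi]
    exact Finset.mem_singleton_self i
  have hx : ∀ l, l ≠ i → x l = 0 := by
    intro l hl
    by_contra h
    have : l ∈ supp x := mem_supp.mpr h
    rw [hi, Finset.mem_singleton] at this
    exact hl this
  refine ⟨i, ?_⟩
  rcases f3_cases h3 (x i) with h | h | h
  · exact absurd h hxi
  · left
    funext l
    unfold e
    by_cases hl : l = i
    · subst hl; rw [h, Pi.single_eq_same]
    · rw [hx l hl, Pi.single_eq_of_ne hl]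
  · right
    funext l
    unfold e
    by_cases hl : l = i
    · subst hl; rw [h, Pi.neg_apply, Pi.single_eq_same]
    · rw [hx l hl, Pi.neg_apply, Pi.single_eq_of_ne hl, neg_zero]

/-- all vectors of weight four are roots as soon as one of them is -/
lemma p3_w4 (h3 : Fintype.card F = 3) {R : (κ → F) → Prop} (hS : Sys R)
    {a : κ → F} (ha : R a) (hw : (supp a).card = 4) (y : κ → F) (hy : (supp y).card = 4) : R y := by
  classical
  obtain ⟨σ, hσ, hσm⟩ := exists_even_perm (supp a) (supp y) (by rw [hw, hy]) (by omega)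
  have hb := hS.perm a σ hσ ha
  have hsupp : ∀ l, (a ∘ σ) l ≠ 0 ↔ y l ≠ 0 := by
    intro l
    rw [Function.comp_apply, ← mem_supp, hσm l, mem_supp]
  have h4 := sys_flipT hS (Finset.univ.filter (fun l => (a ∘ σ) l ≠ y l)) hb
  have e1 : (fun l => if l ∈ Finset.univ.filter (fun l => (a ∘ σ) l ≠ y l) then - (a ∘ σ) l else (a ∘ σ) l) = y := by
    funext l
    by_cases hl : (a ∘ σ) l = y l
    · rw [if_neg (by rw [Finset.mem_filter]; exact fun h => h.2 hl), hl]
    · rw [if_pos (by rw [Finset.mem_filter]; exact ⟨Finset.mem_univ _, hl⟩)]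
      have hb0 : (a ∘ σ) l ≠ 0 := by
        intro h0
        apply hl
        rw [h0]
        by_contra hy0
        exact ((hsupp l).mpr (Ne.symm hy0)) h0
      have hy0 : y l ≠ 0 := (hsupp l).mp hb0
      rcases f3_eq_or_neg h3 hb0 hy0 with h | h
      · exact absurd h hl
      · rw [h, neg_neg]
  rw [e1] at h4
  exact h4

/-! ## P3a -/

theorem p3_all (h3 : Fintype.card F = 3) (hκ : Fintype.card κ = 11) {R : (κ → F) → Prop} (hS : Sys R)
    {a : κ → F} (ha : R a) (hw : (supp a).card = 4) : ∀ x : κ → F, x ⬝ᵥ x = 1 → R x := by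
  classical
  have h30 := f3_three h3
  have h2 := f3_two_ne h3
  have key : ∀ n : ℕ, ∀ x : κ → F, (supp x).card = n → x ⬝ᵥ x = 1 → R x := by
    intro n
    induction n using Nat.strong_induction_on with
    | _ n ih =>
      intro x hn hx
      have hmod : n % 3 = 1 := by
        rw [← f3_cast_eq_one h3, ← hn, ← f3_dot_self h3, hx]
      by_cases hn1 : n = 1
      · obtain ⟨i, hi | hi⟩ := eq_pm_e_of_card_one h3 (hn.trans hn1)
        · rw [hi]; exact hS.frame i
        · rw [hi]; exact hS.neg _ (hS.frame i)
      by_cases hn4 : n = 4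
      · exact p3_w4 h3 hS ha hw x (hn.trans hn4)
      have hn7 : 7 ≤ n := by omega
      -- choose `i0` and `J`
      obtain ⟨i0, hi0⟩ : (supp x).Nonempty := by
        rw [← Finset.card_pos]; omega
      obtain ⟨J, hJsub, hJcard⟩ := Finset.exists_subset_card_eq
        (s := (supp x).erase i0) (n := 3) (by rw [Finset.card_erase_of_mem hi0]; omega)
      have hi0J : i0 ∉ J := fun h => (Finset.mem_erase.mp (hJsub h)).1 rfl
      have hJx : ∀ l ∈ J, x l ≠ 0 := fun l hl => mem_supp.mp (Finset.mem_erase.mp (hJsub hl)).2
      have hxi0 : x i0 ≠ 0 := mem_supp.mp hi0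
      obtain ⟨s, hs⟩ : ∃ s, s = - x i0 := ⟨_, rfl⟩
      have hs0 : s ≠ 0 := by rw [hs]; exact neg_ne_zero.mpr hxi0
      obtain ⟨a', ha'⟩ : ∃ a' : κ → F, a' = fun l => if l ∈ J then 0 else if l = i0 then - x l else x l :=
        ⟨_, rfl⟩
      obtain ⟨b, hb⟩ : ∃ b : κ → F, b = fun l => if l = i0 then 1 else if l ∈ J then s * x l else 0 :=
        ⟨_, rfl⟩
      -- the support of `a'`
      have hsa' : supp a' ⊂ supp x := by
        obtain ⟨j, hj⟩ : J.Nonempty := by rw [← Finset.card_pos]; omega
        refine Finset.ssubset_iff_of_subset (fun l hl => ?_) |>.mpr ⟨j, ?_, ?_⟩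
        · rw [mem_supp] at hl ⊢
          rw [ha'] at hl
          by_cases hlJ : l ∈ J
          · simp [hlJ] at hl
          · by_cases hli : l = i0
            · rw [hli]; exact hxi0
            · simpa [hlJ, hli] using hl
        · exact mem_supp.mpr (hJx j hj)
        · rw [mem_supp, ha']
          simp [hj]
      -- `a'` is a unit vector
      have ha'u : a' ⬝ᵥ a' = 1 := by
        have e1 : a' ⬝ᵥ a' = x ⬝ᵥ x - ∑ l ∈ J, x l * x l := by
          unfold dotProduct
          rw [eq_sub_iff_add_eq, ← Finset.sum_filter_add_sum_filter_not Finset.univ (fun l => l ∈ J)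
            (fun l => x l * x l)]
          have e2 : ∑ l, a' l * a' l = ∑ l ∈ Finset.univ.filter (fun l => ¬ l ∈ J), x l * x l := by
            rw [Finset.sum_filter]
            apply Finset.sum_congr rfl
            intro l _
            rw [ha']
            by_cases hlJ : l ∈ J
            · simp [hlJ]
            · by_cases hli : l = i0
              · simp only [if_neg hlJ, if_pos hli, if_pos hlJ]
                ring
              · simp only [if_neg hlJ, if_neg hli, if_pos hlJ]
          have e3 : Finset.univ.filter (fun l => l ∈ J) = J := by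
            ext l; simp
          rw [e2, e3]
          ring
        have e4 : ∑ l ∈ J, x l * x l = 0 := by
          rw [Finset.sum_congr rfl (fun l hl => f3_mul_self h3 (hJx l hl)), Finset.sum_const, hJcard]
          simp only [nsmul_eq_mul, Nat.cast_ofNat, mul_one]
          exact h30
        rw [e1, hx, e4, sub_zero]
      have hRa' : R a' :=
        ih (supp a').card (by rw [← hn]; exact Finset.card_lt_card hsa') a' rfl ha'u
      -- `b` has weight four
      have hsb : supp b = insert i0 J := by
        ext l
        rw [mem_supp, hb, Finset.mem_insert]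
        by_cases hli : l = i0
        · simp [hli]
        · by_cases hlJ : l ∈ J
          · simp [hli, hlJ, hs0, hJx l hlJ]
          · simp [hli, hlJ]
      have hRb : R b := p3_w4 h3 hS ha hw b (by rw [hsb, Finset.card_insert_of_notMem hi0J, hJcard])
      -- the dot product
      have hdot : a' ⬝ᵥ b = s := by
        unfold dotProduct
        rw [Finset.sum_eq_single i0]
        · rw [ha', hb]
          simp [hi0J, hs]
        · intro l _ hli
          rw [ha', hb]
          by_cases hlJ : l ∈ J
          · simp [hlJ]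
          · simp [hlJ, hli]
        · intro h; exact absurd (Finset.mem_univ _) h
      have hfin := hS.refl a' b hRa' hRb
      have e5 : a' - (2 * (a' ⬝ᵥ b)) • b = x := by
        rw [hdot]
        funext l
        rw [Pi.sub_apply, Pi.smul_apply, smul_eq_mul, ha', hb]
        by_cases hli : l = i0
        · subst hli
          simp only [if_neg hi0J, if_true]
          rw [hs]
          ring
        · by_cases hlJ : l ∈ J
          · simp only [if_pos hlJ, if_neg hli]
            have hss : s * s = 1 := f3_mul_self h3 hs0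
            linear_combination (-(2 * x l)) * hss - (x l) * h30
          · simp only [if_neg hlJ, if_neg hli]
            ring
      rw [e5] at hfin
      exact hfin
  intro x hx
  exact key _ x rfl hx

/-! ## P3b -/

/-- from a root of weight `≠ 1` to a root of weight four (pure `Sys`) -/
lemma p3_reduce (h3 : Fintype.card F = 3) {R : (κ → F) → Prop} (hS : Sys R) :
    ∀ n : ℕ, ∀ a : κ → F, R a → (supp a).card = n → n ≠ 1 → ∃ b : κ → F, R b ∧ (supp b).card = 4 := by
  classical
  have h30 := f3_three h3
  intro n
  induction n using Nat.strong_induction_on with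
  | _ n ih =>
    intro a ha hn hn1
    have hau := hS.unit a ha
    have hmod : n % 3 = 1 := by
      rw [← f3_cast_eq_one h3, ← hn, ← f3_dot_self h3, hau]
    by_cases hn4 : n = 4
    · exact ⟨a, ha, hn.trans hn4⟩
    have hn7 : 7 ≤ n := by omega
    obtain ⟨S, hSsub, hScard⟩ := Finset.exists_subset_card_eq (s := supp a) (n := 3) (by omega)
    have hSa : ∀ l ∈ S, a l ≠ 0 := fun l hl => mem_supp.mp (hSsub hl)
    have hb := sys_flipT hS S ha
    obtain ⟨b, hbdef⟩ : ∃ b : κ → F, b = fun l => if l ∈ S then - a l else a l := ⟨_, rfl⟩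
    rw [← hbdef] at hb
    have hdot : a ⬝ᵥ b = 1 := by
      have e1 : a ⬝ᵥ b = a ⬝ᵥ a - 2 * ∑ l ∈ S, a l * a l := by
        unfold dotProduct
        have e3 : Finset.univ.filter (fun l => l ∈ S) = S := by
          ext l; simp
        rw [← Finset.sum_filter_add_sum_filter_not Finset.univ (fun l => l ∈ S) (fun l => a l * b l),
          ← Finset.sum_filter_add_sum_filter_not Finset.univ (fun l => l ∈ S) (fun l => a l * a l), e3]
        have e4 : ∑ l ∈ S, a l * b l = - ∑ l ∈ S, a l * a l := by
          rw [← Finset.sum_neg_distrib]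
          apply Finset.sum_congr rfl
          intro l hl
          rw [hbdef]
          simp only [if_pos hl]
          ring
        have e5 : ∑ l ∈ Finset.univ.filter (fun l => ¬ l ∈ S), a l * b l =
            ∑ l ∈ Finset.univ.filter (fun l => ¬ l ∈ S), a l * a l := by
          apply Finset.sum_congr rfl
          intro l hl
          rw [Finset.mem_filter] at hl
          rw [hbdef]
          simp only [if_neg hl.2]
        rw [e4, e5]
        ring
      have e2 : ∑ l ∈ S, a l * a l = 0 := by
        rw [Finset.sum_congr rfl (fun l hl => f3_mul_self h3 (hSa l hl)), Finset.sum_const, hScard]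
        simp only [nsmul_eq_mul, Nat.cast_ofNat, mul_one]
        exact h30
      rw [e1, hau, e2, mul_zero, sub_zero]
    have hr := hS.refl a b ha hb
    rw [hdot, mul_one] at hr
    obtain ⟨r, hrdef⟩ : ∃ r : κ → F, r = a - (2 : F) • b := ⟨_, rfl⟩
    rw [← hrdef] at hr
    have hrl : ∀ l, r l = if l ∈ S then 0 else - a l := by
      intro l
      rw [hrdef, hbdef, Pi.sub_apply, Pi.smul_apply, smul_eq_mul]
      by_cases hl : l ∈ S
      · simp only [if_pos hl]
        linear_combination (a l) * h30
      · simp only [if_neg hl]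
        ring
    have hsr : supp r = supp a \ S := by
      ext l
      rw [mem_supp, Finset.mem_sdiff, mem_supp, hrl]
      by_cases hl : l ∈ S
      · simp [hl]
      · simp [hl]
    have hcr : (supp r).card = n - 3 := by
      rw [hsr, Finset.card_sdiff_of_subset hSsub, hn, hScard]
    exact ih (n - 3) (by omega) r hr hcr (by omega)

theorem p3_weight_four (h : Ctx c M) (h3 : Fintype.card F = 3) {a : κ → F} (ha : Rt c M a)
    (hne : ¬ ∃ i, a = e i ∨ a = -e i) : ∃ b : κ → F, Rt c M b ∧ (supp b).card = 4 := by
  have hS := Cfsg.Agent.Lib.Helper5.F11.H15.FrCLeaf.sys_of_ctx h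
  apply p3_reduce h3 hS (supp a).card a ha rfl
  intro h1
  exact hne (eq_pm_e_of_card_one h3 h1)

end Cfsg.Agent.Lib.Helper5.F11.H29.FrCLeaf
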